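import Cfsg.Agent.Lib.Helper2.Fi22M.WBD
import Cfsg.Agent.Lib.Helper4.TC.Strict

set_option autoImplicit false
set_option maxRecDepth 100000
set_option linter.unusedVariables false
set_option Elab.async false

namespace Cfsg.Agent.Lib.Helper2.Fi22M.WB

open Cfsg.Agent.Helper4.TC

theorem e13_c0 : edgeRange data 13 3588 0 = true := edgeRange_strict data 13 3588 0 (by decide +kernel)
theorem e13_c1 : edgeRange data 13 508 3588 = true := edgeRange_strict data 13 508 3588 (by decide +kernel)

end Cfsg.Agent.Lib.Helper2.Fi22M.WB
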