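import Cfsg.Agent.Lib.Helper4.TC.Perm
import Cfsg.Agent.Lib.Helper4.TC.Fi22U62Glue
import Cfsg.Agent.Lib.Helper2.Fi22M.WTFin
import Cfsg.Agent.Lib.Helper2.Fi22M.WTCM0
import Cfsg.Agent.Lib.Helper2.Fi22M.WTCM1
import Cfsg.Agent.Lib.Helper2.Fi22M.WTCE0x0
import Cfsg.Agent.Lib.Helper2.Fi22M.WTCE0x1
import Cfsg.Agent.Lib.Helper2.Fi22M.WTCE1x0
import Cfsg.Agent.Lib.Helper2.Fi22M.WTCE1x1
import Cfsg.Agent.Lib.Helper2.Fi22M.WTCE2x0
import Cfsg.Agent.Lib.Helper2.Fi22M.WTCE2x1
import Cfsg.Agent.Lib.Helper2.Fi22M.WTCE3x0
import Cfsg.Agent.Lib.Helper2.Fi22M.WTCE3x1
import Cfsg.Agent.Lib.Helper2.Fi22M.WTCE4x0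
import Cfsg.Agent.Lib.Helper2.Fi22M.WTCE4x1
import Cfsg.Agent.Lib.Helper2.Fi22M.WTCE5x0
import Cfsg.Agent.Lib.Helper2.Fi22M.WTCE5x1
import Cfsg.Agent.Lib.Helper2.Fi22M.WTCE6x0
import Cfsg.Agent.Lib.Helper2.Fi22M.WTCE6x1
import Cfsg.Agent.Lib.Helper2.Fi22M.WTCE7x0
import Cfsg.Agent.Lib.Helper2.Fi22M.WTCE7x1
import Cfsg.Agent.Lib.Helper2.Fi22M.WTCE8x0
import Cfsg.Agent.Lib.Helper2.Fi22M.WTCE8x1
import Cfsg.Agent.Lib.Helper2.Fi22M.WTCE9x0
import Cfsg.Agent.Lib.Helper2.Fi22M.WTCE9x1
import Cfsg.Agent.Lib.Helper2.Fi22M.WTCE10x0
import Cfsg.Agent.Lib.Helper2.Fi22M.WTCE10x1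
import Cfsg.Agent.Lib.Helper2.Fi22M.WTCE11x0
import Cfsg.Agent.Lib.Helper2.Fi22M.WTCE11x1
import Cfsg.Agent.Lib.Helper2.Fi22M.WTCE12x0
import Cfsg.Agent.Lib.Helper2.Fi22M.WTCE12x1
import Cfsg.Agent.Lib.Helper2.Fi22M.WTCE13x0
import Cfsg.Agent.Lib.Helper2.Fi22M.WTCE13x1
import Cfsg.Agent.Lib.Helper2.Fi22M.WTCE14x0
import Cfsg.Agent.Lib.Helper2.Fi22M.WTCE14x1
import Cfsg.Agent.Lib.Helper2.Fi22M.WTCE15x0
import Cfsg.Agent.Lib.Helper2.Fi22M.WTCE15x1
import Cfsg.Agent.Lib.Helper2.Fi22M.WTCE16x0
import Cfsg.Agent.Lib.Helper2.Fi22M.WTCE16x1
import Cfsg.Agent.Lib.Helper2.Fi22M.WTCE17x0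
import Cfsg.Agent.Lib.Helper2.Fi22M.WTCE17x1
import Cfsg.Agent.Lib.Helper2.Fi22M.WTCF0
import Cfsg.Agent.Lib.Helper2.Fi22M.WTCF1

set_option autoImplicit false
set_option maxRecDepth 100000
set_option linter.unusedVariables false

namespace Cfsg.Agent.Lib.Helper2.Fi22M.WT

open Cfsg.Agent.Helper4.TC

theorem allE0 : ∀ k, k < 65536 → justE data 0 k = true := by
  intro k hk
  by_cases hh1 : k < 24576
  · skip
    by_cases hh2 : k < 8192
    · skip
      exact edgeRange_sound data 0 8192 0 e0_c0 k (by omega) (by omega)
    · skip
      by_cases hh3 : k < 16384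
      · skip
        exact edgeRange_sound data 0 8192 8192 e0_c1 k (by omega) (by omega)
      · skip
        exact edgeRange_sound data 0 8192 16384 e0_c2 k (by omega) (by omega)
  · skip
    by_cases hh4 : k < 32768
    · skip
      exact edgeRange_sound data 0 8192 24576 e0_c3 k (by omega) (by omega)
    · skip
      by_cases hh5 : k < 34410
      · skip
        exact edgeRange_sound data 0 1642 32768 e0_c4 k (by omega) (by omega)
      · skip
        exact edgeRange_sound data 0 31126 34410 e0_c5 k (by omega) (by omega)

theorem allE1 : ∀ k, k < 65536 → justE data 1 k = true := by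
  intro k hk
  by_cases hh1 : k < 24576
  · skip
    by_cases hh2 : k < 8192
    · skip
      exact edgeRange_sound data 1 8192 0 e1_c0 k (by omega) (by omega)
    · skip
      by_cases hh3 : k < 16384
      · skip
        exact edgeRange_sound data 1 8192 8192 e1_c1 k (by omega) (by omega)
      · skip
        exact edgeRange_sound data 1 8192 16384 e1_c2 k (by omega) (by omega)
  · skip
    by_cases hh4 : k < 32768
    · skip
      exact edgeRange_sound data 1 8192 24576 e1_c3 k (by omega) (by omega)
    · skip
      by_cases hh5 : k < 34410
      · skip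
        exact edgeRange_sound data 1 1642 32768 e1_c4 k (by omega) (by omega)
      · skip
        exact edgeRange_sound data 1 31126 34410 e1_c5 k (by omega) (by omega)

theorem allE2 : ∀ k, k < 65536 → justE data 2 k = true := by
  intro k hk
  by_cases hh1 : k < 24576
  · skip
    by_cases hh2 : k < 8192
    · skip
      exact edgeRange_sound data 2 8192 0 e2_c0 k (by omega) (by omega)
    · skip
      by_cases hh3 : k < 16384
      · skip
        exact edgeRange_sound data 2 8192 8192 e2_c1 k (by omega) (by omega)
      · skip
        exact edgeRange_sound data 2 8192 16384 e2_c2 k (by omega) (by omega)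
  · skip
    by_cases hh4 : k < 32768
    · skip
      exact edgeRange_sound data 2 8192 24576 e2_c3 k (by omega) (by omega)
    · skip
      by_cases hh5 : k < 34410
      · skip
        exact edgeRange_sound data 2 1642 32768 e2_c4 k (by omega) (by omega)
      · skip
        exact edgeRange_sound data 2 31126 34410 e2_c5 k (by omega) (by omega)

theorem allE3 : ∀ k, k < 65536 → justE data 3 k = true := by
  intro k hk
  by_cases hh1 : k < 24576
  · skip
    by_cases hh2 : k < 8192
    · skip
      exact edgeRange_sound data 3 8192 0 e3_c0 k (by omega) (by omega)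
    · skip
      by_cases hh3 : k < 16384
      · skip
        exact edgeRange_sound data 3 8192 8192 e3_c1 k (by omega) (by omega)
      · skip
        exact edgeRange_sound data 3 8192 16384 e3_c2 k (by omega) (by omega)
  · skip
    by_cases hh4 : k < 32768
    · skip
      exact edgeRange_sound data 3 8192 24576 e3_c3 k (by omega) (by omega)
    · skip
      by_cases hh5 : k < 34410
      · skip
        exact edgeRange_sound data 3 1642 32768 e3_c4 k (by omega) (by omega)
      · skip
        exact edgeRange_sound data 3 31126 34410 e3_c5 k (by omega) (by omega)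

theorem allE4 : ∀ k, k < 65536 → justE data 4 k = true := by
  intro k hk
  by_cases hh1 : k < 24576
  · skip
    by_cases hh2 : k < 8192
    · skip
      exact edgeRange_sound data 4 8192 0 e4_c0 k (by omega) (by omega)
    · skip
      by_cases hh3 : k < 16384
      · skip
        exact edgeRange_sound data 4 8192 8192 e4_c1 k (by omega) (by omega)
      · skip
        exact edgeRange_sound data 4 8192 16384 e4_c2 k (by omega) (by omega)
  · skip
    by_cases hh4 : k < 32768
    · skip
      exact edgeRange_sound data 4 8192 24576 e4_c3 k (by omega) (by omega)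
    · skip
      by_cases hh5 : k < 34410
      · skip
        exact edgeRange_sound data 4 1642 32768 e4_c4 k (by omega) (by omega)
      · skip
        exact edgeRange_sound data 4 31126 34410 e4_c5 k (by omega) (by omega)

theorem allE5 : ∀ k, k < 65536 → justE data 5 k = true := by
  intro k hk
  by_cases hh1 : k < 24576
  · skip
    by_cases hh2 : k < 8192
    · skip
      exact edgeRange_sound data 5 8192 0 e5_c0 k (by omega) (by omega)
    · skip
      by_cases hh3 : k < 16384
      · skip
        exact edgeRange_sound data 5 8192 8192 e5_c1 k (by omega) (by omega)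
      · skip
        exact edgeRange_sound data 5 8192 16384 e5_c2 k (by omega) (by omega)
  · skip
    by_cases hh4 : k < 32768
    · skip
      exact edgeRange_sound data 5 8192 24576 e5_c3 k (by omega) (by omega)
    · skip
      by_cases hh5 : k < 34410
      · skip
        exact edgeRange_sound data 5 1642 32768 e5_c4 k (by omega) (by omega)
      · skip
        exact edgeRange_sound data 5 31126 34410 e5_c5 k (by omega) (by omega)

theorem allE6 : ∀ k, k < 65536 → justE data 6 k = true := by
  intro k hk
  by_cases hh1 : k < 24576
  · skip
    by_cases hh2 : k < 8192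
    · skip
      exact edgeRange_sound data 6 8192 0 e6_c0 k (by omega) (by omega)
    · skip
      by_cases hh3 : k < 16384
      · skip
        exact edgeRange_sound data 6 8192 8192 e6_c1 k (by omega) (by omega)
      · skip
        exact edgeRange_sound data 6 8192 16384 e6_c2 k (by omega) (by omega)
  · skip
    by_cases hh4 : k < 32768
    · skip
      exact edgeRange_sound data 6 8192 24576 e6_c3 k (by omega) (by omega)
    · skip
      by_cases hh5 : k < 34410
      · skip
        exact edgeRange_sound data 6 1642 32768 e6_c4 k (by omega) (by omega)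
      · skip
        exact edgeRange_sound data 6 31126 34410 e6_c5 k (by omega) (by omega)

theorem allE7 : ∀ k, k < 65536 → justE data 7 k = true := by
  intro k hk
  by_cases hh1 : k < 24576
  · skip
    by_cases hh2 : k < 8192
    · skip
      exact edgeRange_sound data 7 8192 0 e7_c0 k (by omega) (by omega)
    · skip
      by_cases hh3 : k < 16384
      · skip
        exact edgeRange_sound data 7 8192 8192 e7_c1 k (by omega) (by omega)
      · skip
        exact edgeRange_sound data 7 8192 16384 e7_c2 k (by omega) (by omega)
  · skip
    by_cases hh4 : k < 32768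
    · skip
      exact edgeRange_sound data 7 8192 24576 e7_c3 k (by omega) (by omega)
    · skip
      by_cases hh5 : k < 34410
      · skip
        exact edgeRange_sound data 7 1642 32768 e7_c4 k (by omega) (by omega)
      · skip
        exact edgeRange_sound data 7 31126 34410 e7_c5 k (by omega) (by omega)

theorem allE8 : ∀ k, k < 65536 → justE data 8 k = true := by
  intro k hk
  by_cases hh1 : k < 24576
  · skip
    by_cases hh2 : k < 8192
    · skip
      exact edgeRange_sound data 8 8192 0 e8_c0 k (by omega) (by omega)
    · skip
      by_cases hh3 : k < 16384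
      · skip
        exact edgeRange_sound data 8 8192 8192 e8_c1 k (by omega) (by omega)
      · skip
        exact edgeRange_sound data 8 8192 16384 e8_c2 k (by omega) (by omega)
  · skip
    by_cases hh4 : k < 32768
    · skip
      exact edgeRange_sound data 8 8192 24576 e8_c3 k (by omega) (by omega)
    · skip
      by_cases hh5 : k < 34410
      · skip
        exact edgeRange_sound data 8 1642 32768 e8_c4 k (by omega) (by omega)
      · skip
        exact edgeRange_sound data 8 31126 34410 e8_c5 k (by omega) (by omega)

theorem allE9 : ∀ k, k < 65536 → justE data 9 k = true := by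
  intro k hk
  by_cases hh1 : k < 24576
  · skip
    by_cases hh2 : k < 8192
    · skip
      exact edgeRange_sound data 9 8192 0 e9_c0 k (by omega) (by omega)
    · skip
      by_cases hh3 : k < 16384
      · skip
        exact edgeRange_sound data 9 8192 8192 e9_c1 k (by omega) (by omega)
      · skip
        exact edgeRange_sound data 9 8192 16384 e9_c2 k (by omega) (by omega)
  · skip
    by_cases hh4 : k < 32768
    · skip
      exact edgeRange_sound data 9 8192 24576 e9_c3 k (by omega) (by omega)
    · skip
      by_cases hh5 : k < 34410
      · skip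
        exact edgeRange_sound data 9 1642 32768 e9_c4 k (by omega) (by omega)
      · skip
        exact edgeRange_sound data 9 31126 34410 e9_c5 k (by omega) (by omega)

theorem allE10 : ∀ k, k < 65536 → justE data 10 k = true := by
  intro k hk
  by_cases hh1 : k < 24576
  · skip
    by_cases hh2 : k < 8192
    · skip
      exact edgeRange_sound data 10 8192 0 e10_c0 k (by omega) (by omega)
    · skip
      by_cases hh3 : k < 16384
      · skip
        exact edgeRange_sound data 10 8192 8192 e10_c1 k (by omega) (by omega)
      · skip
        exact edgeRange_sound data 10 8192 16384 e10_c2 k (by omega) (by omega)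
  · skip
    by_cases hh4 : k < 32768
    · skip
      exact edgeRange_sound data 10 8192 24576 e10_c3 k (by omega) (by omega)
    · skip
      by_cases hh5 : k < 34410
      · skip
        exact edgeRange_sound data 10 1642 32768 e10_c4 k (by omega) (by omega)
      · skip
        exact edgeRange_sound data 10 31126 34410 e10_c5 k (by omega) (by omega)

theorem allE11 : ∀ k, k < 65536 → justE data 11 k = true := by
  intro k hk
  by_cases hh1 : k < 24576
  · skip
    by_cases hh2 : k < 8192
    · skip
      exact edgeRange_sound data 11 8192 0 e11_c0 k (by omega) (by omega)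
    · skip
      by_cases hh3 : k < 16384
      · skip
        exact edgeRange_sound data 11 8192 8192 e11_c1 k (by omega) (by omega)
      · skip
        exact edgeRange_sound data 11 8192 16384 e11_c2 k (by omega) (by omega)
  · skip
    by_cases hh4 : k < 32768
    · skip
      exact edgeRange_sound data 11 8192 24576 e11_c3 k (by omega) (by omega)
    · skip
      by_cases hh5 : k < 34410
      · skip
        exact edgeRange_sound data 11 1642 32768 e11_c4 k (by omega) (by omega)
      · skip
        exact edgeRange_sound data 11 31126 34410 e11_c5 k (by omega) (by omega)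

theorem allE12 : ∀ k, k < 65536 → justE data 12 k = true := by
  intro k hk
  by_cases hh1 : k < 24576
  · skip
    by_cases hh2 : k < 8192
    · skip
      exact edgeRange_sound data 12 8192 0 e12_c0 k (by omega) (by omega)
    · skip
      by_cases hh3 : k < 16384
      · skip
        exact edgeRange_sound data 12 8192 8192 e12_c1 k (by omega) (by omega)
      · skip
        exact edgeRange_sound data 12 8192 16384 e12_c2 k (by omega) (by omega)
  · skip
    by_cases hh4 : k < 32768
    · skip
      exact edgeRange_sound data 12 8192 24576 e12_c3 k (by omega) (by omega)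
    · skip
      by_cases hh5 : k < 34410
      · skip
        exact edgeRange_sound data 12 1642 32768 e12_c4 k (by omega) (by omega)
      · skip
        exact edgeRange_sound data 12 31126 34410 e12_c5 k (by omega) (by omega)

theorem allE13 : ∀ k, k < 65536 → justE data 13 k = true := by
  intro k hk
  by_cases hh1 : k < 24576
  · skip
    by_cases hh2 : k < 8192
    · skip
      exact edgeRange_sound data 13 8192 0 e13_c0 k (by omega) (by omega)
    · skip
      by_cases hh3 : k < 16384
      · skip
        exact edgeRange_sound data 13 8192 8192 e13_c1 k (by omega) (by omega)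
      · skip
        exact edgeRange_sound data 13 8192 16384 e13_c2 k (by omega) (by omega)
  · skip
    by_cases hh4 : k < 32768
    · skip
      exact edgeRange_sound data 13 8192 24576 e13_c3 k (by omega) (by omega)
    · skip
      by_cases hh5 : k < 34410
      · skip
        exact edgeRange_sound data 13 1642 32768 e13_c4 k (by omega) (by omega)
      · skip
        exact edgeRange_sound data 13 31126 34410 e13_c5 k (by omega) (by omega)

theorem allE14 : ∀ k, k < 65536 → justE data 14 k = true := by
  intro k hk
  by_cases hh1 : k < 24576
  · skip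
    by_cases hh2 : k < 8192
    · skip
      exact edgeRange_sound data 14 8192 0 e14_c0 k (by omega) (by omega)
    · skip
      by_cases hh3 : k < 16384
      · skip
        exact edgeRange_sound data 14 8192 8192 e14_c1 k (by omega) (by omega)
      · skip
        exact edgeRange_sound data 14 8192 16384 e14_c2 k (by omega) (by omega)
  · skip
    by_cases hh4 : k < 32768
    · skip
      exact edgeRange_sound data 14 8192 24576 e14_c3 k (by omega) (by omega)
    · skip
      by_cases hh5 : k < 34410
      · skip
        exact edgeRange_sound data 14 1642 32768 e14_c4 k (by omega) (by omega)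
      · skip
        exact edgeRange_sound data 14 31126 34410 e14_c5 k (by omega) (by omega)

theorem allE15 : ∀ k, k < 65536 → justE data 15 k = true := by
  intro k hk
  by_cases hh1 : k < 24576
  · skip
    by_cases hh2 : k < 8192
    · skip
      exact edgeRange_sound data 15 8192 0 e15_c0 k (by omega) (by omega)
    · skip
      by_cases hh3 : k < 16384
      · skip
        exact edgeRange_sound data 15 8192 8192 e15_c1 k (by omega) (by omega)
      · skip
        exact edgeRange_sound data 15 8192 16384 e15_c2 k (by omega) (by omega)
  · skip
    by_cases hh4 : k < 32768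
    · skip
      exact edgeRange_sound data 15 8192 24576 e15_c3 k (by omega) (by omega)
    · skip
      by_cases hh5 : k < 34410
      · skip
        exact edgeRange_sound data 15 1642 32768 e15_c4 k (by omega) (by omega)
      · skip
        exact edgeRange_sound data 15 31126 34410 e15_c5 k (by omega) (by omega)

theorem allE16 : ∀ k, k < 65536 → justE data 16 k = true := by
  intro k hk
  by_cases hh1 : k < 24576
  · skip
    by_cases hh2 : k < 8192
    · skip
      exact edgeRange_sound data 16 8192 0 e16_c0 k (by omega) (by omega)
    · skip
      by_cases hh3 : k < 16384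
      · skip
        exact edgeRange_sound data 16 8192 8192 e16_c1 k (by omega) (by omega)
      · skip
        exact edgeRange_sound data 16 8192 16384 e16_c2 k (by omega) (by omega)
  · skip
    by_cases hh4 : k < 32768
    · skip
      exact edgeRange_sound data 16 8192 24576 e16_c3 k (by omega) (by omega)
    · skip
      by_cases hh5 : k < 34410
      · skip
        exact edgeRange_sound data 16 1642 32768 e16_c4 k (by omega) (by omega)
      · skip
        exact edgeRange_sound data 16 31126 34410 e16_c5 k (by omega) (by omega)

theorem allE17 : ∀ k, k < 65536 → justE data 17 k = true := by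
  intro k hk
  by_cases hh1 : k < 24576
  · skip
    by_cases hh2 : k < 8192
    · skip
      exact edgeRange_sound data 17 8192 0 e17_c0 k (by omega) (by omega)
    · skip
      by_cases hh3 : k < 16384
      · skip
        exact edgeRange_sound data 17 8192 8192 e17_c1 k (by omega) (by omega)
      · skip
        exact edgeRange_sound data 17 8192 16384 e17_c2 k (by omega) (by omega)
  · skip
    by_cases hh4 : k < 32768
    · skip
      exact edgeRange_sound data 17 8192 24576 e17_c3 k (by omega) (by omega)
    · skip
      by_cases hh5 : k < 34410
      · skip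
        exact edgeRange_sound data 17 1642 32768 e17_c4 k (by omega) (by omega)
      · skip
        exact edgeRange_sound data 17 31126 34410 e17_c5 k (by omega) (by omega)

theorem allE : ∀ c k, c < data.nc → k ≤ data.mask → justE data c k = true := by
  intro c k hc hk
  have hk' : k < 65536 := Nat.lt_succ_of_le hk
  have hc' : c < 18 := hc
  interval_cases c
  · exact allE0 k hk'
  · exact allE1 k hk'
  · exact allE2 k hk'
  · exact allE3 k hk'
  · exact allE4 k hk'
  · exact allE5 k hk'
  · exact allE6 k hk'
  · exact allE7 k hk'
  · exact allE8 k hk'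
  · exact allE9 k hk'
  · exact allE10 k hk'
  · exact allE11 k hk'
  · exact allE12 k hk'
  · exact allE13 k hk'
  · exact allE14 k hk'
  · exact allE15 k hk'
  · exact allE16 k hk'
  · exact allE17 k hk'

theorem allM : ∀ k, k ≤ data.mask → justM data k = true := by
  intro k hk
  have hk' : k < 65536 := Nat.lt_succ_of_le hk
  by_cases hh1 : k < 24576
  · skip
    by_cases hh2 : k < 8192
    · skip
      exact mergeRange_sound data 8192 0 m_c0 k (by omega) (by omega)
    · skip
      by_cases hh3 : k < 16384
      · skip
        exact mergeRange_sound data 8192 8192 m_c1 k (by omega) (by omega)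
      · skip
        exact mergeRange_sound data 8192 16384 m_c2 k (by omega) (by omega)
  · skip
    by_cases hh4 : k < 32768
    · skip
      exact mergeRange_sound data 8192 24576 m_c3 k (by omega) (by omega)
    · skip
      by_cases hh5 : k < 34410
      · skip
        exact mergeRange_sound data 1642 32768 m_c4 k (by omega) (by omega)
      · skip
        exact mergeRange_sound data 31126 34410 m_c5 k (by omega) (by omega)

theorem rows_all : ∀ k, k < M → isFinal data k = true → rowOK data M k data.nc = true := by
  intro k hk
  have hk' : k < 34410 := hk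
  by_cases hh1 : k < 16384
  · skip
    by_cases hh2 : k < 8192
    · skip
      exact rowsRange_sound data M 8192 0 rows0 k (by omega) (by omega)
    · skip
      exact rowsRange_sound data M 8192 8192 rows1 k (by omega) (by omega)
  · skip
    by_cases hh3 : k < 24576
    · skip
      exact rowsRange_sound data M 8192 16384 rows2 k (by omega) (by omega)
    · skip
      by_cases hh4 : k < 32768
      · skip
        exact rowsRange_sound data M 8192 24576 rows3 k (by omega) (by omega)
      · skip
        exact rowsRange_sound data M 1642 32768 rows4 k (by omega) (by omega)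

theorem cnt_ok : countFinal data M 0 0 = n := by
  exact cnt0

theorem bound : Finite (PresentedGroup (relSet Cfsg.Agent.Helper4.TC.Fi22U62.dec bases) ⧸ (Subgroup.closure (relSet Cfsg.Agent.Helper4.TC.Fi22U62.dec subsL)).map (PresentedGroup.mk (relSet Cfsg.Agent.Helper4.TC.Fi22U62.dec bases))) ∧
    Nat.card (PresentedGroup (relSet Cfsg.Agent.Helper4.TC.Fi22U62.dec bases) ⧸ (Subgroup.closure (relSet Cfsg.Agent.Helper4.TC.Fi22U62.dec subsL)).map (PresentedGroup.mk (relSet Cfsg.Agent.Helper4.TC.Fi22U62.dec bases))) ≤ n :=
  tc_bound data bases subsL rots Cfsg.Agent.Helper4.TC.Fi22U62.coding (mem_relSet bases) (mem_relSet subsL) words_ok allE allM M n fin0_ok (by decide) (by decide) cnt_ok rows_all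

end Cfsg.Agent.Lib.Helper2.Fi22M.WT
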