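import Cfsg.Agent.Lib.Helper6.Fi22M.Defs
import Cfsg.Agent.Lib.Helper2.Fi22M.WTB
import Cfsg.Agent.Lib.Helper2.Fi22M.WAB
import Cfsg.Agent.Lib.Helper2.Fi22M.WBB
import Cfsg.Agent.Lib.Helper4.TC.Fi22SMain

/-!
# S2053-[TC]: the order of the weak group `PW` of `Fi22` is at most `12 |Fi22|`

Three certified coset enumerations (helper24's `ptc`/`emit`, helper4's `tc_bound`):
`PW` over `⟨b,…,i⟩` (index `28160`), the weak group of `⟨b,…,i⟩` (Coxeter relators exact, the spider
relator and `(bcdefgh)^9` central) over `⟨b,c,d,e,f,h,i⟩` (index `728`), the weak group of the latter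
(spider relator central) over `⟨b,c,d,e,h,i⟩` (index `729`), and helper4's bound `51840` for the Coxeter
group of type `E₆` on `b,c,d,e,h,i`.  `28160 * 728 * 729 * 51840 = 12 * |Fi22|`.
-/

set_option autoImplicit false
set_option maxRecDepth 100000
set_option linter.unusedVariables false

namespace Cfsg.Agent.Lib.Helper6.Fi22M

open Cfsg Cfsg.Agent.Helper4.TC Cfsg.Agent.Helper4.TC.Schur

namespace Helper2TC

open Cfsg.Agent.Lib.Helper2.Fi22M

def gens8 : List (List ℕ) := [[2], [4], [6], [8], [10], [12], [14], [16]]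
def gens7 : List (List ℕ) := [[2], [4], [6], [8], [10], [14], [16]]
/-- the Coxeter relators on `b,…,i` -/
def coxA : List (List ℕ) := coxL.filter fun r => !(r.contains 0)
/-- the Coxeter relators on `b,c,d,e,f,h,i` -/
def coxB : List (List ℕ) := coxL.filter fun r => !(r.contains 0) && !(r.contains 12)
def weakA : List (List ℕ) := coxA ++ [[0]] ++ weakify0 gens8 [rho1, rho3]
def weakB : List (List ℕ) := coxB ++ [[0], [12]] ++ weakify0 gens7 [rho1]

theorem WT_bases_sub : ∀ b ∈ WT.bases, b ∈ relW := by decide +kernel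
theorem WA_bases_sub : ∀ b ∈ WA.bases, b ∈ weakA := by decide +kernel
theorem WB_bases_sub : ∀ b ∈ WB.bases, b ∈ weakB := by decide +kernel

theorem boundT :
    Finite (PresentedGroup RW ⧸
      (Subgroup.closure (relSet dec WT.subsL)).map (PresentedGroup.mk RW)) ∧
    Nat.card (PresentedGroup RW ⧸
      (Subgroup.closure (relSet dec WT.subsL)).map (PresentedGroup.mk RW)) ≤ 28160 :=
  tc_bound WT.data WT.bases WT.subsL WT.rots Fi22U62.coding
    (fun b hb => mem_relSet relW b (WT_bases_sub b hb)) (mem_relSet WT.subsL) WT.words_ok WT.allE WT.allM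
    WT.M WT.n WT.fin0_ok (by decide) (by decide) WT.cnt_ok WT.rows_all

theorem boundA :
    Finite (PresentedGroup (relSet dec weakA) ⧸
      (Subgroup.closure (relSet dec WA.subsL)).map (PresentedGroup.mk (relSet dec weakA))) ∧
    Nat.card (PresentedGroup (relSet dec weakA) ⧸
      (Subgroup.closure (relSet dec WA.subsL)).map (PresentedGroup.mk (relSet dec weakA))) ≤ 728 :=
  tc_bound WA.data WA.bases WA.subsL WA.rots Fi22U62.coding
    (fun b hb => mem_relSet weakA b (WA_bases_sub b hb)) (mem_relSet WA.subsL) WA.words_ok WA.allE WA.allM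
    WA.M WA.n WA.fin0_ok (by decide) (by decide) WA.cnt_ok WA.rows_all

theorem boundB :
    Finite (PresentedGroup (relSet dec weakB) ⧸
      (Subgroup.closure (relSet dec WB.subsL)).map (PresentedGroup.mk (relSet dec weakB))) ∧
    Nat.card (PresentedGroup (relSet dec weakB) ⧸
      (Subgroup.closure (relSet dec WB.subsL)).map (PresentedGroup.mk (relSet dec weakB))) ≤ 729 :=
  tc_bound WB.data WB.bases WB.subsL WB.rots Fi22U62.coding
    (fun b hb => mem_relSet weakB b (WB_bases_sub b hb)) (mem_relSet WB.subsL) WB.words_ok WB.allE WB.allM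
    WB.M WB.n WB.fin0_ok (by decide) (by decide) WB.cnt_ok WB.rows_all

/-- helper4's bound for the Coxeter group of type `E₆` on `b, c, d, e, h, i` -/
theorem cardE6 : Finite (PresentedGroup (relSet dec Fi22Z3.bases)) ∧
    Nat.card (PresentedGroup (relSet dec Fi22Z3.bases)) ≤ 51840 := Fi22S.card2

theorem cardB : Finite (PresentedGroup (relSet dec weakB)) ∧
    Nat.card (PresentedGroup (relSet dec weakB)) ≤ 729 * 51840 :=
  stage_bound (relSet dec weakB) (relSet dec Fi22Z3.bases) (relSet dec WB.subsL) weakB Fi22Z3.bases WB.subsL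
    (fun x : Gen => decide (x ∈ ([.b, .c, .d, .e, .h, .i] : List Gen))) (mem_relSet _) (fun r hr => hr)
    (fun s hs => hs) (by decide +kernel) (by decide +kernel) 729 51840 boundB cardE6

theorem cardA : Finite (PresentedGroup (relSet dec weakA)) ∧
    Nat.card (PresentedGroup (relSet dec weakA)) ≤ 728 * (729 * 51840) :=
  stage_bound (relSet dec weakA) (relSet dec weakB) (relSet dec WA.subsL) weakA weakB WA.subsL
    (fun x : Gen => decide (x ∈ ([.b, .c, .d, .e, .f, .h, .i] : List Gen))) (mem_relSet _) (fun r hr => hr)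
    (fun s hs => hs) (by decide +kernel) (by decide +kernel) 728 (729 * 51840) boundA cardB

theorem cardW : Finite PW ∧ Nat.card PW ≤ 28160 * (728 * (729 * 51840)) :=
  stage_bound RW (relSet dec weakA) (relSet dec WT.subsL) relW weakA WT.subsL
    (fun x : Gen => decide (x ∈ ([.b, .c, .d, .e, .f, .g, .h, .i] : List Gen))) (mem_relSet _) (fun r hr => hr)
    (fun s hs => hs) (by decide +kernel) (by decide +kernel) 28160 (728 * (729 * 51840)) boundT cardA

end Helper2TC

/-- [TC] the weak group has order at most `12 |Fi22|` -/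
theorem card_PW : Finite PW ∧ Nat.card PW ≤ 12 * 64561751654400 :=
  ⟨Helper2TC.cardW.1, Helper2TC.cardW.2.trans (by norm_num)⟩

end Cfsg.Agent.Lib.Helper6.Fi22M
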