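import Cfsg.Agent.Lib.Helper2.Fi22M.WBT0
import Cfsg.Agent.Lib.Helper2.Fi22M.WBT1

set_option autoImplicit false
set_option maxRecDepth 100000
set_option linter.unusedVariables false

namespace Cfsg.Agent.Lib.Helper2.Fi22M.WB

open Cfsg.Agent.Helper4.TC

noncomputable def ecol0 (b : ℕ) : ℕ := (Bool.rec (motive := fun _ => ℕ) (e0_0) (e0_1) (Nat.ble 1 b))
noncomputable def jcol0 (b : ℕ) : ℕ := (Bool.rec (motive := fun _ => ℕ) (j0_0) (j0_1) (Nat.ble 1 b))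
noncomputable def ecol1 (b : ℕ) : ℕ := (Bool.rec (motive := fun _ => ℕ) (e1_0) (e1_1) (Nat.ble 1 b))
noncomputable def jcol1 (b : ℕ) : ℕ := (Bool.rec (motive := fun _ => ℕ) (j1_0) (j1_1) (Nat.ble 1 b))
noncomputable def ecol2 (b : ℕ) : ℕ := (Bool.rec (motive := fun _ => ℕ) (e2_0) (e2_1) (Nat.ble 1 b))
noncomputable def jcol2 (b : ℕ) : ℕ := (Bool.rec (motive := fun _ => ℕ) (j2_0) (j2_1) (Nat.ble 1 b))
noncomputable def ecol3 (b : ℕ) : ℕ := (Bool.rec (motive := fun _ => ℕ) (e3_0) (e3_1) (Nat.ble 1 b))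
noncomputable def jcol3 (b : ℕ) : ℕ := (Bool.rec (motive := fun _ => ℕ) (j3_0) (j3_1) (Nat.ble 1 b))
noncomputable def ecol4 (b : ℕ) : ℕ := (Bool.rec (motive := fun _ => ℕ) (e4_0) (e4_1) (Nat.ble 1 b))
noncomputable def jcol4 (b : ℕ) : ℕ := (Bool.rec (motive := fun _ => ℕ) (j4_0) (j4_1) (Nat.ble 1 b))
noncomputable def ecol5 (b : ℕ) : ℕ := (Bool.rec (motive := fun _ => ℕ) (e5_0) (e5_1) (Nat.ble 1 b))
noncomputable def jcol5 (b : ℕ) : ℕ := (Bool.rec (motive := fun _ => ℕ) (j5_0) (j5_1) (Nat.ble 1 b))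
noncomputable def ecol6 (b : ℕ) : ℕ := (Bool.rec (motive := fun _ => ℕ) (e6_0) (e6_1) (Nat.ble 1 b))
noncomputable def jcol6 (b : ℕ) : ℕ := (Bool.rec (motive := fun _ => ℕ) (j6_0) (j6_1) (Nat.ble 1 b))
noncomputable def ecol7 (b : ℕ) : ℕ := (Bool.rec (motive := fun _ => ℕ) (e7_0) (e7_1) (Nat.ble 1 b))
noncomputable def jcol7 (b : ℕ) : ℕ := (Bool.rec (motive := fun _ => ℕ) (j7_0) (j7_1) (Nat.ble 1 b))
noncomputable def ecol8 (b : ℕ) : ℕ := (Bool.rec (motive := fun _ => ℕ) (e8_0) (e8_1) (Nat.ble 1 b))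
noncomputable def jcol8 (b : ℕ) : ℕ := (Bool.rec (motive := fun _ => ℕ) (j8_0) (j8_1) (Nat.ble 1 b))
noncomputable def ecol9 (b : ℕ) : ℕ := (Bool.rec (motive := fun _ => ℕ) (e9_0) (e9_1) (Nat.ble 1 b))
noncomputable def jcol9 (b : ℕ) : ℕ := (Bool.rec (motive := fun _ => ℕ) (j9_0) (j9_1) (Nat.ble 1 b))
noncomputable def ecol10 (b : ℕ) : ℕ := (Bool.rec (motive := fun _ => ℕ) (e10_0) (e10_1) (Nat.ble 1 b))
noncomputable def jcol10 (b : ℕ) : ℕ := (Bool.rec (motive := fun _ => ℕ) (j10_0) (j10_1) (Nat.ble 1 b))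
noncomputable def ecol11 (b : ℕ) : ℕ := (Bool.rec (motive := fun _ => ℕ) (e11_0) (e11_1) (Nat.ble 1 b))
noncomputable def jcol11 (b : ℕ) : ℕ := (Bool.rec (motive := fun _ => ℕ) (j11_0) (j11_1) (Nat.ble 1 b))
noncomputable def ecol12 (b : ℕ) : ℕ := (Bool.rec (motive := fun _ => ℕ) (e12_0) (e12_1) (Nat.ble 1 b))
noncomputable def jcol12 (b : ℕ) : ℕ := (Bool.rec (motive := fun _ => ℕ) (j12_0) (j12_1) (Nat.ble 1 b))
noncomputable def ecol13 (b : ℕ) : ℕ := (Bool.rec (motive := fun _ => ℕ) (e13_0) (e13_1) (Nat.ble 1 b))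
noncomputable def jcol13 (b : ℕ) : ℕ := (Bool.rec (motive := fun _ => ℕ) (j13_0) (j13_1) (Nat.ble 1 b))
noncomputable def ecol14 (b : ℕ) : ℕ := (Bool.rec (motive := fun _ => ℕ) (e14_0) (e14_1) (Nat.ble 1 b))
noncomputable def jcol14 (b : ℕ) : ℕ := (Bool.rec (motive := fun _ => ℕ) (j14_0) (j14_1) (Nat.ble 1 b))
noncomputable def ecol15 (b : ℕ) : ℕ := (Bool.rec (motive := fun _ => ℕ) (e15_0) (e15_1) (Nat.ble 1 b))
noncomputable def jcol15 (b : ℕ) : ℕ := (Bool.rec (motive := fun _ => ℕ) (j15_0) (j15_1) (Nat.ble 1 b))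
noncomputable def ecol16 (b : ℕ) : ℕ := (Bool.rec (motive := fun _ => ℕ) (e16_0) (e16_1) (Nat.ble 1 b))
noncomputable def jcol16 (b : ℕ) : ℕ := (Bool.rec (motive := fun _ => ℕ) (j16_0) (j16_1) (Nat.ble 1 b))
noncomputable def ecol17 (b : ℕ) : ℕ := (Bool.rec (motive := fun _ => ℕ) (e17_0) (e17_1) (Nat.ble 1 b))
noncomputable def jcol17 (b : ℕ) : ℕ := (Bool.rec (motive := fun _ => ℕ) (j17_0) (j17_1) (Nat.ble 1 b))
noncomputable def eT (c b : ℕ) : ℕ := (Bool.rec (motive := fun _ => ℕ) (Bool.rec (motive := fun _ => ℕ) (Bool.rec (motive := fun _ => ℕ) (Bool.rec (motive := fun _ => ℕ) (Bool.rec (motive := fun _ => ℕ) (ecol0 b) (ecol1 b) (Nat.ble 1 c)) (Bool.rec (motive := fun _ => ℕ) (ecol2 b) (ecol3 b) (Nat.ble 3 c)) (Nat.ble 2 c)) (Bool.rec (motive := fun _ => ℕ) (Bool.rec (motive := fun _ => ℕ) (ecol4 b) (ecol5 b) (Nat.ble 5 c)) (Bool.rec (motive := fun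 _ => ℕ) (ecol6 b) (ecol7 b) (Nat.ble 7 c)) (Nat.ble 6 c)) (Nat.ble 4 c)) (Bool.rec (motive := fun _ => ℕ) (Bool.rec (motive := fun _ => ℕ) (Bool.rec (motive := fun _ => ℕ) (ecol8 b) (ecol9 b) (Nat.ble 9 c)) (Bool.rec (motive := fun _ => ℕ) (ecol10 b) (ecol11 b) (Nat.ble 11 c)) (Nat.ble 10 c)) (Bool.rec (motive := fun _ => ℕ) (Bool.rec (motive := fun _ => ℕ) (ecol12 b) (ecol13 b) (Nat.ble 13 c)) (Bool.rec (motive := fun _ => ℕ) (ecol14 b) (ecol15 b) (Nat.ble 15 c)) (Nat.ble 14 c)) (Nat.ble 12 c)) (Nat.ble 8 c)) (Bool.rec (motive := fun _ => ℕ) (Bool.rec (motive := fun _ => ℕ) (Bool.rec (motive := fun _ => ℕ) (Bool.rec (motive := fun _ => ℕ) (ecol16 b) (ecol17 b) (Nat.ble 17 c)) (0) (Nat.ble 18 c)) (0) (Nat.ble 20 c)) (0) (Nat.ble 24 c)) (Nat.ble 16 c))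
noncomputable def jT (c b : ℕ) : ℕ := (Bool.rec (motive := fun _ => ℕ) (Bool.rec (motive := fun _ => ℕ) (Bool.rec (motive := fun _ => ℕ) (Bool.rec (motive := fun _ => ℕ) (Bool.rec (motive := fun _ => ℕ) (jcol0 b) (jcol1 b) (Nat.ble 1 c)) (Bool.rec (motive := fun _ => ℕ) (jcol2 b) (jcol3 b) (Nat.ble 3 c)) (Nat.ble 2 c)) (Bool.rec (motive := fun _ => ℕ) (Bool.rec (motive := fun _ => ℕ) (jcol4 b) (jcol5 b) (Nat.ble 5 c)) (Bool.rec (motive := fun _ => ℕ) (jcol6 b) (jcol7 b) (Nat.ble 7 c)) (Nat.ble 6 c)) (Nat.ble 4 c)) (Bool.rec (motive := fun _ => ℕ) (Bool.rec (motive := fun _ => ℕ) (Bool.rec (motive := fun _ => ℕ) (jcol8 b) (jcol9 b) (Nat.ble 9 c)) (Bool.rec (motive := fun _ => ℕ) (jcol10 b) (jcol11 b) (Nat.ble 11 c)) (Nat.ble 10 c)) (Bool.rec (motive := fun _ => ℕ) (Bool.rec (motive := fun _ => ℕ) (jcol12 b) (jcol13 b) (Nat.ble 13 c)) (Bool.rec (motive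 := fun _ => ℕ) (jcol14 b) (jcol15 b) (Nat.ble 15 c)) (Nat.ble 14 c)) (Nat.ble 12 c)) (Nat.ble 8 c)) (Bool.rec (motive := fun _ => ℕ) (Bool.rec (motive := fun _ => ℕ) (Bool.rec (motive := fun _ => ℕ) (Bool.rec (motive := fun _ => ℕ) (jcol16 b) (jcol17 b) (Nat.ble 17 c)) (0) (Nat.ble 18 c)) (0) (Nat.ble 20 c)) (0) (Nat.ble 24 c)) (Nat.ble 16 c))
noncomputable def mgT (b : ℕ) : ℕ := (Bool.rec (motive := fun _ => ℕ) (m_0) (m_1) (Nat.ble 1 b))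
noncomputable def jmT (b : ℕ) : ℕ := (Bool.rec (motive := fun _ => ℕ) (jm_0) (jm_1) (Nat.ble 1 b))
def rw0 : List ℕ := [2, 10, 2, 10]
def rw1 : List ℕ := [2, 8, 2, 8]
def rw2 : List ℕ := [2, 6, 2, 6]
def rw3 : List ℕ := [2, 14, 2, 14]
def rw4 : List ℕ := [2, 2]
def rw5 : List ℕ := [2, 16, 2, 16]
def rw6 : List ℕ := [2, 14, 2, 14]
def rw7 : List ℕ := [2, 6, 2, 6]
def rw8 : List ℕ := [2, 16, 2, 16]
def rw9 : List ℕ := [2, 4, 2, 4, 2, 4]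
def rw10 : List ℕ := [2, 8, 2, 8]
def rw11 : List ℕ := [2, 10, 2, 10]
def rw12 : List ℕ := [2, 4, 2, 4, 2, 4]
def rw13 : List ℕ := [4, 10, 4, 10]
def rw14 : List ℕ := [4, 8, 4, 8]
def rw15 : List ℕ := [4, 4]
def rw16 : List ℕ := [4, 2, 4, 2, 4, 2]
def rw17 : List ℕ := [4, 14, 4, 14]
def rw18 : List ℕ := [4, 2, 4, 2, 4, 2]
def rw19 : List ℕ := [4, 6, 4, 6, 4, 6]
def rw20 : List ℕ := [4, 16, 4, 16]
def rw21 : List ℕ := [4, 16, 4, 16]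
def rw22 : List ℕ := [4, 14, 4, 14]
def rw23 : List ℕ := [4, 8, 4, 8]
def rw24 : List ℕ := [4, 10, 4, 10]
def rw25 : List ℕ := [4, 6, 4, 6, 4, 6]
def rw26 : List ℕ := [6, 10, 6, 10]
def rw27 : List ℕ := [6, 6]
def rw28 : List ℕ := [6, 4, 6, 4, 6, 4]
def rw29 : List ℕ := [6, 14, 6, 14, 6, 14]
def rw30 : List ℕ := [6, 2, 6, 2]
def rw31 : List ℕ := [6, 16, 6, 16]
def rw32 : List ℕ := [6, 2, 6, 2]
def rw33 : List ℕ := [6, 8, 6, 8, 6, 8]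
def rw34 : List ℕ := [6, 16, 6, 16]
def rw35 : List ℕ := [6, 4, 6, 4, 6, 4]
def rw36 : List ℕ := [6, 10, 6, 10]
def rw37 : List ℕ := [6, 8, 6, 8, 6, 8]
def rw38 : List ℕ := [6, 14, 6, 14, 6, 14]
def rw39 : List ℕ := [8, 8]
def rw40 : List ℕ := [8, 6, 8, 6, 8, 6]
def rw41 : List ℕ := [8, 4, 8, 4]
def rw42 : List ℕ := [8, 14, 8, 14]
def rw43 : List ℕ := [8, 2, 8, 2]
def rw44 : List ℕ := [8, 4, 8, 4]
def rw45 : List ℕ := [8, 16, 8, 16]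
def rw46 : List ℕ := [8, 2, 8, 2]
def rw47 : List ℕ := [8, 10, 8, 10, 8, 10]
def rw48 : List ℕ := [8, 16, 8, 16]
def rw49 : List ℕ := [8, 14, 8, 14]
def rw50 : List ℕ := [8, 6, 8, 6, 8, 6]
def rw51 : List ℕ := [8, 10, 8, 10, 8, 10]
def rw52 : List ℕ := [10, 10]
def rw53 : List ℕ := [10, 8, 10, 8, 10, 8]
def rw54 : List ℕ := [10, 6, 10, 6]
def rw55 : List ℕ := [10, 4, 10, 4]
def rw56 : List ℕ := [10, 14, 10, 14]
def rw57 : List ℕ := [10, 2, 10, 2]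
def rw58 : List ℕ := [10, 4, 10, 4]
def rw59 : List ℕ := [10, 16, 10, 16]
def rw60 : List ℕ := [10, 2, 10, 2]
def rw61 : List ℕ := [10, 6, 10, 6]
def rw62 : List ℕ := [10, 16, 10, 16]
def rw63 : List ℕ := [10, 14, 10, 14]
def rw64 : List ℕ := [10, 8, 10, 8, 10, 8]
def rw65 : List ℕ := [14, 10, 14, 10]
def rw66 : List ℕ := [14, 8, 14, 8]
def rw67 : List ℕ := [14, 14]
def rw68 : List ℕ := [14, 16, 14, 16, 14, 16]
def rw69 : List ℕ := [14, 6, 14, 6, 14, 6]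
def rw70 : List ℕ := [14, 4, 14, 4]
def rw71 : List ℕ := [14, 2, 14, 2]
def rw72 : List ℕ := [14, 4, 14, 4]
def rw73 : List ℕ := [14, 6, 14, 6, 14, 6]
def rw74 : List ℕ := [14, 2, 14, 2]
def rw75 : List ℕ := [14, 8, 14, 8]
def rw76 : List ℕ := [14, 10, 14, 10]
def rw77 : List ℕ := [14, 16, 14, 16, 14, 16]
def rw78 : List ℕ := [16, 10, 16, 10]
def rw79 : List ℕ := [16, 8, 16, 8]
def rw80 : List ℕ := [16, 6, 16, 6]
def rw81 : List ℕ := [16, 4, 16, 4]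
def rw82 : List ℕ := [16, 2, 16, 2]
def rw83 : List ℕ := [16, 16]
def rw84 : List ℕ := [16, 14, 16, 14, 16, 14]
def rw85 : List ℕ := [16, 14, 16, 14, 16, 14]
def rw86 : List ℕ := [16, 10, 16, 10]
def rw87 : List ℕ := [16, 6, 16, 6]
def rw88 : List ℕ := [16, 8, 16, 8]
def rw89 : List ℕ := [16, 4, 16, 4]
def rw90 : List ℕ := [16, 2, 16, 2]
def rw91 : List ℕ := [0]
def rw92 : List ℕ := [12]
def rw93 : List ℕ := [14, 6, 10, 8, 6, 2, 4, 6, 16, 14, 6, 10, 8, 6, 2, 4, 6, 5, 7, 5, 3, 7, 9, 11, 7, 15, 17, 7, 5, 3, 7, 9, 11, 7, 15, 17, 7, 5, 3, 7, 9, 11, 7, 15, 17, 7, 5, 3, 7, 9, 11, 7, 15, 17, 7, 5, 3, 7, 9, 11, 7, 15, 17, 7, 5, 3, 7, 9, 11, 7, 15, 17, 7, 5, 3, 7, 9, 11, 7, 15, 17, 7, 5, 3, 7, 9, 11, 7, 15, 17, 7, 5, 3, 7, 9, 11, 7, 15, 17, 7, 5, 3, 7, 9, 11, 7, 15, 17, 4, 16, 14, 6, 10, 8, 6, 2, 4, 6, 16, 14, 6, 10, 8, 6, 2, 4, 6, 16, 14, 6, 10, 8, 6, 2, 4,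 6, 16, 14, 6, 10, 8, 6, 2, 4, 6, 16, 14, 6, 10, 8, 6, 2, 4, 6, 16, 14, 6, 10, 8, 6, 2, 4, 6, 16, 14, 6, 10, 8, 6, 2, 4, 6, 16, 14, 6, 10, 8, 6, 2, 4, 6, 16]
noncomputable def relW (i : ℕ) : List ℕ := (Bool.rec (motive := fun _ => List ℕ) (Bool.rec (motive := fun _ => List ℕ) (Bool.rec (motive := fun _ => List ℕ) (Bool.rec (motive := fun _ => List ℕ) (Bool.rec (motive := fun _ => List ℕ) (Bool.rec (motive := fun _ => List ℕ) (Bool.rec (motive := fun _ => List ℕ) (rw0) (rw1) (Nat.ble 1 i)) (Bool.rec (motive := fun _ => List ℕ) (rw2) (rw3) (Nat.ble 3 i)) (Nat.ble 2 i)) (Bool.rec (motive := fun _ => List ℕ) (Bool.rec (motive := fun _ => List ℕ) (rw4) (rw5) (Nat.ble 5 i)) (Bool.rec (motive := fun _ => List ℕ) (rw6) (rw7) (Nat.ble 7 i)) (Nat.ble 6 i)) (Nat.ble 4 i)) (Bool.rec (motive := fun _ => List ℕ) (Bool.rec (motive := fun _ => List ℕ) (Bool.rec (motive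 := fun _ => List ℕ) (rw8) (rw9) (Nat.ble 9 i)) (Bool.rec (motive := fun _ => List ℕ) (rw10) (rw11) (Nat.ble 11 i)) (Nat.ble 10 i)) (Bool.rec (motive := fun _ => List ℕ) (Bool.rec (motive := fun _ => List ℕ) (rw12) (rw13) (Nat.ble 13 i)) (Bool.rec (motive := fun _ => List ℕ) (rw14) (rw15) (Nat.ble 15 i)) (Nat.ble 14 i)) (Nat.ble 12 i)) (Nat.ble 8 i)) (Bool.rec (motive := fun _ => List ℕ) (Bool.rec (motive := fun _ => List ℕ) (Bool.rec (motive := fun _ => List ℕ) (Bool.rec (motive := fun _ => List ℕ) (rw16) (rw17) (Nat.ble 17 i)) (Bool.rec (motive := fun _ => List ℕ) (rw18) (rw19) (Nat.ble 19 i)) (Nat.ble 18 i)) (Bool.rec (motive := fun _ => List ℕ) (Bool.rec (motive := fun _ => List ℕ) (rw20) (rw21) (Nat.ble 21 i)) (Bool.rec (motive := fun _ => List ℕ) (rw22) (rw23) (Nat.ble 23 i)) (Nat.ble 22 i)) (Nat.ble 20 i)) (Bool.rec (motive := fun _ => List ℕ)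 (Bool.rec (motive := fun _ => List ℕ) (Bool.rec (motive := fun _ => List ℕ) (rw24) (rw25) (Nat.ble 25 i)) (Bool.rec (motive := fun _ => List ℕ) (rw26) (rw27) (Nat.ble 27 i)) (Nat.ble 26 i)) (Bool.rec (motive := fun _ => List ℕ) (Bool.rec (motive := fun _ => List ℕ) (rw28) (rw29) (Nat.ble 29 i)) (Bool.rec (motive := fun _ => List ℕ) (rw30) (rw31) (Nat.ble 31 i)) (Nat.ble 30 i)) (Nat.ble 28 i)) (Nat.ble 24 i)) (Nat.ble 16 i)) (Bool.rec (motive := fun _ => List ℕ) (Bool.rec (motive := fun _ => List ℕ) (Bool.rec (motive := fun _ => List ℕ) (Bool.rec (motive := fun _ => List ℕ) (Bool.rec (motive := fun _ => List ℕ) (rw32) (rw33) (Nat.ble 33 i)) (Bool.rec (motive := fun _ => List ℕ) (rw34) (rw35) (Nat.ble 35 i)) (Nat.ble 34 i)) (Bool.rec (motive := fun _ => List ℕ) (Bool.rec (motive := fun _ => List ℕ) (rw36) (rw37) (Nat.ble 37 i)) (Bool.rec (motive := fun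 _ => List ℕ) (rw38) (rw39) (Nat.ble 39 i)) (Nat.ble 38 i)) (Nat.ble 36 i)) (Bool.rec (motive := fun _ => List ℕ) (Bool.rec (motive := fun _ => List ℕ) (Bool.rec (motive := fun _ => List ℕ) (rw40) (rw41) (Nat.ble 41 i)) (Bool.rec (motive := fun _ => List ℕ) (rw42) (rw43) (Nat.ble 43 i)) (Nat.ble 42 i)) (Bool.rec (motive := fun _ => List ℕ) (Bool.rec (motive := fun _ => List ℕ) (rw44) (rw45) (Nat.ble 45 i)) (Bool.rec (motive := fun _ => List ℕ) (rw46) (rw47) (Nat.ble 47 i)) (Nat.ble 46 i)) (Nat.ble 44 i)) (Nat.ble 40 i)) (Bool.rec (motive := fun _ => List ℕ) (Bool.rec (motive := fun _ => List ℕ) (Bool.rec (motive := fun _ => List ℕ) (Bool.rec (motive := fun _ => List ℕ) (rw48) (rw49) (Nat.ble 49 i)) (Bool.rec (motive := fun _ => List ℕ) (rw50) (rw51) (Nat.ble 51 i)) (Nat.ble 50 i)) (Bool.rec (motive := fun _ => List ℕ) (Bool.rec (motive := fun _ => List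 ℕ) (rw52) (rw53) (Nat.ble 53 i)) (Bool.rec (motive := fun _ => List ℕ) (rw54) (rw55) (Nat.ble 55 i)) (Nat.ble 54 i)) (Nat.ble 52 i)) (Bool.rec (motive := fun _ => List ℕ) (Bool.rec (motive := fun _ => List ℕ) (Bool.rec (motive := fun _ => List ℕ) (rw56) (rw57) (Nat.ble 57 i)) (Bool.rec (motive := fun _ => List ℕ) (rw58) (rw59) (Nat.ble 59 i)) (Nat.ble 58 i)) (Bool.rec (motive := fun _ => List ℕ) (Bool.rec (motive := fun _ => List ℕ) (rw60) (rw61) (Nat.ble 61 i)) (Bool.rec (motive := fun _ => List ℕ) (rw62) (rw63) (Nat.ble 63 i)) (Nat.ble 62 i)) (Nat.ble 60 i)) (Nat.ble 56 i)) (Nat.ble 48 i)) (Nat.ble 32 i)) (Bool.rec (motive := fun _ => List ℕ) (Bool.rec (motive := fun _ => List ℕ) (Bool.rec (motive := fun _ => List ℕ) (Bool.rec (motive := fun _ => List ℕ) (Bool.rec (motive := fun _ => List ℕ) (Bool.rec (motive := fun _ => List ℕ) (rw64) (rw65) (Nat.ble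 65 i)) (Bool.rec (motive := fun _ => List ℕ) (rw66) (rw67) (Nat.ble 67 i)) (Nat.ble 66 i)) (Bool.rec (motive := fun _ => List ℕ) (Bool.rec (motive := fun _ => List ℕ) (rw68) (rw69) (Nat.ble 69 i)) (Bool.rec (motive := fun _ => List ℕ) (rw70) (rw71) (Nat.ble 71 i)) (Nat.ble 70 i)) (Nat.ble 68 i)) (Bool.rec (motive := fun _ => List ℕ) (Bool.rec (motive := fun _ => List ℕ) (Bool.rec (motive := fun _ => List ℕ) (rw72) (rw73) (Nat.ble 73 i)) (Bool.rec (motive := fun _ => List ℕ) (rw74) (rw75) (Nat.ble 75 i)) (Nat.ble 74 i)) (Bool.rec (motive := fun _ => List ℕ) (Bool.rec (motive := fun _ => List ℕ) (rw76) (rw77) (Nat.ble 77 i)) (Bool.rec (motive := fun _ => List ℕ) (rw78) (rw79) (Nat.ble 79 i)) (Nat.ble 78 i)) (Nat.ble 76 i)) (Nat.ble 72 i)) (Bool.rec (motive := fun _ => List ℕ) (Bool.rec (motive := fun _ => List ℕ) (Bool.rec (motive := fun _ => List ℕ) (Bool.rec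 (motive := fun _ => List ℕ) (rw80) (rw81) (Nat.ble 81 i)) (Bool.rec (motive := fun _ => List ℕ) (rw82) (rw83) (Nat.ble 83 i)) (Nat.ble 82 i)) (Bool.rec (motive := fun _ => List ℕ) (Bool.rec (motive := fun _ => List ℕ) (rw84) (rw85) (Nat.ble 85 i)) (Bool.rec (motive := fun _ => List ℕ) (rw86) (rw87) (Nat.ble 87 i)) (Nat.ble 86 i)) (Nat.ble 84 i)) (Bool.rec (motive := fun _ => List ℕ) (Bool.rec (motive := fun _ => List ℕ) (Bool.rec (motive := fun _ => List ℕ) (rw88) (rw89) (Nat.ble 89 i)) (Bool.rec (motive := fun _ => List ℕ) (rw90) (rw91) (Nat.ble 91 i)) (Nat.ble 90 i)) (Bool.rec (motive := fun _ => List ℕ) (Bool.rec (motive := fun _ => List ℕ) (rw92) (rw93) (Nat.ble 93 i)) ([]) (Nat.ble 94 i)) (Nat.ble 92 i)) (Nat.ble 88 i)) (Nat.ble 80 i)) ([]) (Nat.ble 96 i)) (Nat.ble 64 i))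
def sw0 : List ℕ := [2]
def sw1 : List ℕ := [4]
def sw2 : List ℕ := [6]
def sw3 : List ℕ := [8]
def sw4 : List ℕ := [14]
def sw5 : List ℕ := [16]
noncomputable def subW (i : ℕ) : List ℕ := (Bool.rec (motive := fun _ => List ℕ) (Bool.rec (motive := fun _ => List ℕ) (Bool.rec (motive := fun _ => List ℕ) (sw0) (sw1) (Nat.ble 1 i)) (Bool.rec (motive := fun _ => List ℕ) (sw2) (sw3) (Nat.ble 3 i)) (Nat.ble 2 i)) (Bool.rec (motive := fun _ => List ℕ) (Bool.rec (motive := fun _ => List ℕ) (sw4) (sw5) (Nat.ble 5 i)) ([]) (Nat.ble 6 i)) (Nat.ble 4 i))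

noncomputable def data : Data where
  w := 12
  mask := 4095
  tw := 15
  tmask := 32767
  hsh := 27
  lsh := 39
  ew := 42
  emask := 4398046511103
  mw := 44
  mmask := 17592186044415
  jw := 20
  jmask := 1048575
  bsh := 11
  bmask := 2047
  nc := 18
  fuel := 2
  E := eT
  J := jT
  Mg := mgT
  JM := jmT
  relW := relW
  nrot := 94
  subW := subW
  nsub := 6

def M : ℕ := 3588
def n : ℕ := 729

def bases : List (List ℕ) := [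
  [2, 2],
  [4, 2, 4, 2, 4, 2],
  [6, 2, 6, 2],
  [8, 2, 8, 2],
  [10, 2, 10, 2],
  [14, 2, 14, 2],
  [16, 2, 16, 2],
  [4, 4],
  [6, 4, 6, 4, 6, 4],
  [8, 4, 8, 4],
  [10, 4, 10, 4],
  [14, 4, 14, 4],
  [16, 4, 16, 4],
  [6, 6],
  [8, 6, 8, 6, 8, 6],
  [10, 6, 10, 6],
  [14, 6, 14, 6, 14, 6],
  [16, 6, 16, 6],
  [8, 8],
  [10, 8, 10, 8, 10, 8],
  [14, 8, 14, 8],
  [16, 8, 16, 8],
  [10, 10],
  [14, 10, 14, 10],
  [16, 10, 16, 10],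
  [14, 14],
  [16, 14, 16, 14, 16, 14],
  [16, 16],
  [0],
  [12],
  [5, 7, 5, 3, 7, 9, 11, 7, 15, 17, 7, 5, 3, 7, 9, 11, 7, 15, 17, 7, 5, 3, 7, 9, 11, 7, 15, 17, 7, 5, 3, 7, 9, 11, 7, 15, 17, 7, 5, 3, 7, 9, 11, 7, 15, 17, 7, 5, 3, 7, 9, 11, 7, 15, 17, 7, 5, 3, 7, 9, 11, 7, 15, 17, 7, 5, 3, 7, 9, 11, 7, 15, 17, 7, 5, 3, 7, 9, 11, 7, 15, 17, 7, 5, 3, 7, 9, 11, 7, 15, 17, 4, 16, 14, 6, 10, 8, 6, 2, 4, 6, 16, 14, 6, 10, 8, 6, 2, 4, 6, 16, 14, 6, 10, 8, 6, 2, 4, 6, 16, 14, 6, 10, 8, 6, 2, 4, 6, 16, 14, 6, 10, 8, 6, 2, 4, 6, 16, 14, 6, 10, 8, 6, 2, 4, 6, 16, 14, 6, 10, 8, 6, 2, 4, 6, 16, 14, 6, 10, 8, 6, 2, 4, 6, 16, 14, 6, 10, 8, 6, 2, 4, 6, 16, 14, 6, 10, 8, 6, 2, 4, 6]]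

def rots : List (ℕ × ℕ) := [(4, 3), (3, 3), (2, 3), (5, 3), (0, 1), (6, 3), (5, 1), (2, 1), (6, 1), (1, 5), (3, 1), (4, 1), (1, 1), (10, 3), (9, 3), (7, 1), (1, 2), (11, 1), (1, 0), (8, 5), (12, 1), (12, 3), (11, 3), (9, 1), (10, 1), (8, 1), (15, 3), (13, 1), (8, 2), (16, 5), (2, 2), (17, 3), (2, 0), (14, 5), (17, 1), (8, 0), (15, 1), (14, 1), (16, 1), (18, 1), (14, 2), (9, 2), (20, 3), (3, 2), (9, 0), (21, 3), (3, 0), (19, 5), (21, 1), (20, 1), (14, 0), (19, 1), (22, 1), (19, 2), (15, 2), (10, 2), (23, 3), (4, 2), (10, 0), (24, 3), (4, 0), (15, 0), (24, 1), (23, 1), (19, 0), (23, 2), (20, 2), (25, 1), (26, 5), (16, 2), (11, 0), (5, 0), (11, 2), (16, 0), (5, 2), (20, 0), (23, 0), (26, 1), (24, 2), (21, 2), (17, 2), (12, 2), (6, 2), (27, 1), (26, 2), (26, 0), (24, 0), (17, 0), (21, 0), (12, 0), (6, 0), (28, 0), (29, 0), (30, 165)]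

def subsL : List (List ℕ) := [
  [2],
  [4],
  [6],
  [8],
  [14],
  [16]]

end Cfsg.Agent.Lib.Helper2.Fi22M.WB
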